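import Groth.Agent.GrpLCI.Frobenius
import Groth.Agent.FinHopf.PerfectTrunc
import Groth.Agent.FinHopf.Truncated
import Mathlib

/-!
The quotient of a finitely generated algebra by a Frobenius power of the ideal of a rational point; it is
a complete intersection as soon as it carries a counital comultiplication.
-/

set_option autoImplicit false
set_option backward.isDefEq.respectTransparency false

universe u

open IsLocalRing TensorProduct

noncomputable section

namespace Groth.Agent.GrpLCI

variable {k : Type u} [Field k] (p : ℕ) [Fact p.Prime] [CharP k p] {A : Type u} [CommRing A] [Algebra k A]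
  (ε : A →ₐ[k] k) (n : ℕ)

/-- `A / (a ^ p ^ n | a ∈ ker ε)`. -/
abbrev frobQuot : Type u := A ⧸ frob (RingHom.ker ε) (p ^ n)

/-- The point of the quotient. -/
def frobPt : frobQuot p ε n →ₐ[k] k :=
  Ideal.Quotient.liftₐ _ ε fun a ha => by
    have h := (frob_le_pow (RingHom.ker ε) (p ^ n)).trans
      (Ideal.pow_le_self (pow_ne_zero n (Fact.out (p := p.Prime)).ne_zero)) ha
    exact h

@[simp] theorem frobPt_mk (a : A) : frobPt p ε n (Ideal.Quotient.mk _ a) = ε a := rfl

theorem frobPt_comp : (frobPt p ε n).comp (Ideal.Quotient.mkₐ k _) = ε := by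
  ext a; rfl

instance : Nontrivial (frobQuot p ε n) := (frobPt p ε n).toRingHom.domain_nontrivial

instance : CharP (frobQuot p ε n) p :=
  charP_of_injective_algebraMap (algebraMap k (frobQuot p ε n)).injective p

theorem pow_eq_algebraMap (x : frobQuot p ε n) :
    x ^ p ^ n = algebraMap k (frobQuot p ε n) (frobPt p ε n x ^ p ^ n) := by
  obtain ⟨a, rfl⟩ := Ideal.Quotient.mk_surjective x
  rw [frobPt_mk]
  have hmem : a - algebraMap k A (ε a) ∈ RingHom.ker ε := FinHopf.sub_algebraMap_mem ε a
  have h0 : Ideal.Quotient.mk (frob (RingHom.ker ε) (p ^ n)) (a - algebraMap k A (ε a)) ^ p ^ n = 0 := by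
    rw [← map_pow, Ideal.Quotient.eq_zero_iff_mem]
    exact pow_mem_frob _ hmem
  rw [map_sub, sub_pow_char_pow, sub_eq_zero] at h0
  rw [h0, map_pow]
  rfl

/-- The point of the square of the quotient. -/
def frobPt₂ : frobQuot p ε n ⊗[k] frobQuot p ε n →ₐ[k] k :=
  Algebra.TensorProduct.lift (frobPt p ε n) (frobPt p ε n) fun _ _ => Commute.all _ _

theorem pow_eq_algebraMap₂ (y : frobQuot p ε n ⊗[k] frobQuot p ε n) :
    y ^ p ^ n = algebraMap k _ (frobPt₂ p ε n y ^ p ^ n) := by
  haveI : Nontrivial (frobQuot p ε n ⊗[k] frobQuot p ε n) := (frobPt₂ p ε n).toRingHom.domain_nontrivial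
  haveI : CharP (frobQuot p ε n ⊗[k] frobQuot p ε n) p :=
    charP_of_injective_algebraMap (algebraMap k _).injective p
  induction y using TensorProduct.induction_on with
  | zero => simp [zero_pow (pow_ne_zero n (Fact.out (p := p.Prime)).ne_zero)]
  | tmul a b =>
    rw [Algebra.TensorProduct.tmul_pow, pow_eq_algebraMap p ε n a, pow_eq_algebraMap p ε n b]
    simp only [frobPt₂, Algebra.TensorProduct.lift_tmul, mul_pow, map_mul]
    rw [Algebra.algebraMap_eq_smul_one, Algebra.algebraMap_eq_smul_one, Algebra.algebraMap_eq_smul_one,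
      Algebra.algebraMap_eq_smul_one, Algebra.TensorProduct.one_def, TensorProduct.smul_tmul_smul,
      Algebra.smul_mul_assoc, Algebra.mul_smul_comm, Algebra.TensorProduct.tmul_mul_tmul, one_mul, smul_smul]
  | add a b ha hb =>
    rw [add_pow_char_pow, ha, hb, map_add, add_pow_char_pow, map_add]

theorem isNilpotent_of_mem_ker₂ {y : frobQuot p ε n ⊗[k] frobQuot p ε n}
    (hy : y ∈ RingHom.ker (frobPt₂ p ε n)) : IsNilpotent y :=
  ⟨p ^ n, by rw [pow_eq_algebraMap₂, RingHom.mem_ker.1 hy, zero_pow (pow_ne_zero n (Fact.out (p := p.Prime)).ne_zero),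
    map_zero]⟩

variable [Algebra.FiniteType k A]

instance : Algebra.FiniteType k (frobQuot p ε n) :=
  Algebra.FiniteType.of_surjective (Ideal.Quotient.mkₐ k (frob (RingHom.ker ε) (p ^ n))) Ideal.Quotient.mk_surjective

instance : Module.Finite k (frobQuot p ε n) := by
  haveI : Algebra.IsIntegral k (frobQuot p ε n) := ⟨fun x =>
    IsIntegral.of_pow (pow_pos (Fact.out (p := p.Prime)).pos n)
      (by rw [pow_eq_algebraMap p ε n x]; exact isIntegral_algebraMap)⟩
  exact Algebra.IsIntegral.finite

theorem exists_pow_ker_eq_bot : ∃ N : ℕ, RingHom.ker (frobPt p ε n) ^ N = ⊥ := by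
  haveI : IsNoetherianRing (frobQuot p ε n) := Algebra.FiniteType.isNoetherianRing k _
  obtain ⟨N, hN⟩ := IsNoetherianRing.isNilpotent_nilradical (R := frobQuot p ε n)
  refine ⟨N, le_bot_iff.1 ?_⟩
  have hle : RingHom.ker (frobPt p ε n) ≤ nilradical (frobQuot p ε n) := fun x hx => ⟨p ^ n, by
    rw [pow_eq_algebraMap, RingHom.mem_ker.1 hx, zero_pow (pow_ne_zero n (Fact.out (p := p.Prime)).ne_zero), map_zero]; exact zero_mem _⟩
  exact (Ideal.pow_right_mono hle N).trans (le_of_eq hN)

theorem isUnit_of_frobPt_ne_zero {x : frobQuot p ε n} (hx : frobPt p ε n x ≠ 0) : IsUnit x := by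
  obtain ⟨N, hN⟩ := exists_pow_ker_eq_bot p ε n
  exact FinHopf.isUnit_of_apply_ne_zero _ hN hx

/-- With a counital comultiplication the quotient is a truncated polynomial ring, so it is cut out
of a regular local ring by as many equations as its dimension. -/
theorem exists_cutBy [PerfectRing k p] (Δ : frobQuot p ε n →ₐ[k] frobQuot p ε n ⊗[k] frobQuot p ε n)
    (hΔ : FinHopf.IsCounital (frobPt p ε n) Δ) :
    ∃ (R : Type u) (_ : CommRing R) (_ : IsRegularLocalRing R) (π : R →+* frobQuot p ε n),
      Function.Surjective π ∧ CILib.CutBy π := by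
  classical
  obtain ⟨N, hN⟩ := exists_pow_ker_eq_bot p ε n
  obtain ⟨r, x, ξ, e, he, hx, hξx, hξ, hgen, hprod⟩ := FinHopf.exists_trunc_generators p hΔ hN
  obtain ⟨E⟩ := FinHopf.exists_equiv_trunc (fun i => p ^ e i) x hx hgen hprod.le
  let φ : MvPolynomial (Fin r) k →ₐ[k] frobQuot p ε n :=
    E.symm.toAlgHom.comp (Ideal.Quotient.mkₐ k (FinHopf.truncIdeal k fun i => p ^ e i))
  have hφ : Function.Surjective φ := E.symm.surjective.comp Ideal.Quotient.mk_surjective
  have hkφ : RingHom.ker φ = FinHopf.truncIdeal k fun i => p ^ e i := by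
    ext y
    rw [RingHom.mem_ker]
    show E.symm (Ideal.Quotient.mk _ y) = 0 ↔ _
    rw [map_eq_zero_iff _ E.symm.injective, Ideal.Quotient.eq_zero_iff_mem]
  let Q : Ideal (MvPolynomial (Fin r) k) := RingHom.ker ((frobPt p ε n).comp φ)
  have hsur : Function.Surjective ((frobPt p ε n).comp φ) := fun c => ⟨algebraMap k _ c, AlgHom.commutes _ c⟩
  haveI hQm : Q.IsMaximal := RingHom.ker_isMaximal_of_surjective _ hsur
  haveI := CILib.regularLocal_mvPolynomial Q
  have hunit : ∀ s : Q.primeCompl, IsUnit (φ.toRingHom s) := fun s => isUnit_of_frobPt_ne_zero p ε n s.2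
  let π : Localization.AtPrime Q →+* frobQuot p ε n := IsLocalization.lift hunit
  have hπ : Function.Surjective π := fun y => by
    obtain ⟨z, rfl⟩ := hφ y
    exact ⟨algebraMap _ _ z, IsLocalization.lift_eq hunit z⟩
  have hk : RingHom.ker π = (RingHom.ker φ).map (algebraMap _ (Localization.AtPrime Q)) := by
    refine le_antisymm (fun y hy => ?_) ?_
    · obtain ⟨a, s, rfl⟩ := IsLocalization.exists_mk'_eq Q.primeCompl y
      rw [RingHom.mem_ker, IsLocalization.lift_mk'_spec, mul_zero] at hy
      exact (IsLocalization.mk'_mem_iff).2 (Ideal.mem_map_of_mem _ hy)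
    · rw [Ideal.map_le_iff_le_comap]
      intro a ha
      show π (algebraMap _ _ a) = 0
      rw [IsLocalization.lift_eq]
      exact ha
  refine ⟨Localization.AtPrime Q, inferInstance, inferInstance, π, hπ, r,
    ⟨fun i => algebraMap _ _ ((MvPolynomial.X i : MvPolynomial (Fin r) k) ^ p ^ e i), ?_⟩, ?_⟩
  · rw [hk, hkφ, FinHopf.truncIdeal, Ideal.map_span, ← Set.range_comp]
    rfl
  · have h0 : ringKrullDim (frobQuot p ε n) = 0 := by
      haveI : IsArtinianRing (frobQuot p ε n) := IsArtinianRing.of_finite k _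
      exact le_antisymm (Ring.krullDimLE_iff.1 inferInstance) ringKrullDim_nonneg_of_nontrivial
    rw [h0, zero_add, IsLocalization.AtPrime.ringKrullDim_eq_height Q (Localization.AtPrime Q),
      RegLocLib.height_eq_of_isMaximal_mvPolynomial k r Q hQm]
    rfl

/-- The local ring at the point. -/
abbrev ptRing (ε : A →ₐ[k] k) : Type u :=
  haveI : (RingHom.ker ε).IsPrime := RingHom.ker_isPrime ε
  Localization.AtPrime (RingHom.ker ε)

theorem isCompleteIntersection_quot [PerfectRing k p]
    (Δ : frobQuot p ε n →ₐ[k] frobQuot p ε n ⊗[k] frobQuot p ε n)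
    (hΔ : FinHopf.IsCounital (frobPt p ε n) Δ) :
    haveI : (RingHom.ker ε).IsPrime := RingHom.ker_isPrime ε
    ∃ _ : IsLocalRing (Localization.AtPrime (RingHom.ker ε) ⧸
        frob (maximalIdeal (Localization.AtPrime (RingHom.ker ε))) (p ^ n)),
      Pi1.IsCompleteIntersection (Localization.AtPrime (RingHom.ker ε) ⧸
        frob (maximalIdeal (Localization.AtPrime (RingHom.ker ε))) (p ^ n)) := by
  haveI hp : (RingHom.ker ε).IsPrime := RingHom.ker_isPrime ε
  let m := RingHom.ker ε
  let O := Localization.AtPrime m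
  let F := frob (maximalIdeal O) (p ^ n)
  have hunit : ∀ s : m.primeCompl, IsUnit (Ideal.Quotient.mk (frob m (p ^ n)) s) := fun s =>
    isUnit_of_frobPt_ne_zero p ε n (x := Ideal.Quotient.mk _ s.1) s.2
  let ρ : O →+* frobQuot p ε n := IsLocalization.lift hunit
  have hρ : Function.Surjective ρ := fun y => by
    obtain ⟨z, rfl⟩ := Ideal.Quotient.mk_surjective y
    exact ⟨algebraMap _ _ z, IsLocalization.lift_eq hunit z⟩
  have hk : RingHom.ker ρ = F := by
    refine le_antisymm (fun y hy => ?_) (Ideal.span_le.2 ?_)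
    · obtain ⟨a, s, rfl⟩ := IsLocalization.exists_mk'_eq m.primeCompl y
      rw [RingHom.mem_ker, IsLocalization.lift_mk'_spec, mul_zero, Ideal.Quotient.eq_zero_iff_mem] at hy
      refine (IsLocalization.mk'_mem_iff).2 ?_
      refine (show frob m (p ^ n) ≤ F.comap (algebraMap A O) from Ideal.span_le.2 ?_) hy
      rintro _ ⟨b, hb, rfl⟩
      show algebraMap A O (b ^ p ^ n) ∈ F
      rw [map_pow]
      exact pow_mem_frob _ ((IsLocalization.AtPrime.to_map_mem_maximal_iff O m b).2 hb)
    · rintro _ ⟨y, hy, rfl⟩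
      obtain ⟨a, s, rfl⟩ := IsLocalization.exists_mk'_eq m.primeCompl y
      have ha : a ∈ m := (IsLocalization.AtPrime.mk'_mem_maximal_iff O m a s).1 hy
      show ρ (IsLocalization.mk' O a s ^ p ^ n) = 0
      rw [← IsLocalization.mk'_pow, IsLocalization.lift_mk'_spec, mul_zero, Ideal.Quotient.eq_zero_iff_mem]
      exact pow_mem_frob _ ha
  let e : O ⧸ F ≃+* frobQuot p ε n :=
    (Ideal.quotEquivOfEq hk.symm).trans (RingHom.quotientKerEquivOfSurjective hρ)
  obtain ⟨R, _, _, π, hπ, hc⟩ := exists_cutBy p ε n Δ hΔ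
  haveI : IsLocalRing (frobQuot p ε n) := IsLocalRing.of_surjective' π hπ
  haveI hl : IsLocalRing (O ⧸ F) := e.symm.isLocalRing
  refine ⟨hl, (CILib.isCompleteIntersection_iff_cutBy (e.symm.toRingHom.comp π) (e.symm.surjective.comp hπ)).2 ?_⟩
  obtain ⟨c, hf, hd⟩ := hc
  refine ⟨c, ?_, by rw [← ringKrullDim_eq_of_ringEquiv e.symm]; exact hd⟩
  have : RingHom.ker (e.symm.toRingHom.comp π) = RingHom.ker π := by
    ext z; simp [RingHom.mem_ker]
  rw [this]
  exact hf

/-- If all Frobenius quotients carry counital comultiplications, the local ring is a complete intersection. -/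
theorem isCompleteIntersection_localization [PerfectRing k p]
    (h : ∀ n, ∃ Δ : frobQuot p ε n →ₐ[k] frobQuot p ε n ⊗[k] frobQuot p ε n,
      FinHopf.IsCounital (frobPt p ε n) Δ) :
    haveI : (RingHom.ker ε).IsPrime := RingHom.ker_isPrime ε
    Pi1.IsCompleteIntersection (Localization.AtPrime (RingHom.ker ε)) := by
  haveI hp : (RingHom.ker ε).IsPrime := RingHom.ker_isPrime ε
  haveI : Algebra.EssFiniteType k (Localization.AtPrime (RingHom.ker ε)) :=
    haveI := Algebra.EssFiniteType.of_isLocalization (Localization.AtPrime (RingHom.ker ε)) (RingHom.ker ε).primeCompl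
    Algebra.EssFiniteType.comp k A _
  obtain ⟨N, Q, hQ, π, hπ⟩ := CILib.exists_regular_presentation (k := k)
    (S := Localization.AtPrime (RingHom.ker ε))
  haveI := CILib.regularLocal_mvPolynomial Q
  refine isCompleteIntersection_of_frob π.toRingHom hπ fun a => ?_
  obtain ⟨Δ, hΔ⟩ := h a
  obtain ⟨hl, hci⟩ := isCompleteIntersection_quot p ε a Δ hΔ
  exact ⟨p ^ a, Nat.lt_pow_self (Fact.out (p := p.Prime)).one_lt, hl, hci⟩

end Groth.Agent.GrpLCI
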