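import Groth.Agent.CILib.CompleteIntersection
import Mathlib

/-!
A Noetherian local quotient of a regular local ring is a complete intersection if its quotients by
high Frobenius powers of the maximal ideal are.
-/

set_option autoImplicit false
set_option backward.isDefEq.respectTransparency false

universe u

open IsLocalRing

namespace Groth.Agent.GrpLCI

/-- The ideal generated by the `q`-th powers of the elements of `I`. -/
def frob {A : Type u} [CommRing A] (I : Ideal A) (q : ℕ) : Ideal A :=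
  Ideal.span ((fun x => x ^ q) '' (I : Set A))

theorem pow_mem_frob {A : Type u} [CommRing A] {I : Ideal A} (q : ℕ) {x : A} (hx : x ∈ I) :
    x ^ q ∈ frob I q :=
  Ideal.subset_span ⟨x, hx, rfl⟩

theorem frob_le_pow {A : Type u} [CommRing A] (I : Ideal A) (q : ℕ) : frob I q ≤ I ^ q := by
  rw [frob, Ideal.span_le]
  rintro _ ⟨x, hx, rfl⟩
  exact Ideal.pow_mem_pow hx q

theorem le_radical_frob {A : Type u} [CommRing A] (I : Ideal A) (q : ℕ) : I ≤ (frob I q).radical :=
  fun _ hx => ⟨q, pow_mem_frob q hx⟩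

/-- Generators of `K` can be chosen to start with a minimal generating set of `J` if `J ∩ mK ⊆ mJ`. -/
theorem exists_adapted_generators {T : Type u} [CommRing T] [IsLocalRing T] [IsNoetherianRing T]
    (J K : Ideal T) (hJK : J ≤ K) (h : J ⊓ maximalIdeal T * K ≤ maximalIdeal T * J) {N : ℕ}
    (f : Fin N → T) (hf : K = Ideal.span (Set.range f)) :
    ∃ a c : Finset T, a.card + c.card ≤ N ∧ J = Ideal.span a ∧ K = Ideal.span (↑a ∪ ↑c) := by
  classical
  let m := maximalIdeal T
  letI : Field (T ⧸ m) := Ideal.Quotient.field m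
  let V := K ⧸ (m • (⊤ : Submodule T K))
  let mk : K →ₗ[T] V := Submodule.mkQ _
  have hmk : Function.Surjective mk := Submodule.mkQ_surjective _
  have hker : LinearMap.ker mk = m • (⊤ : Submodule T K) := Submodule.ker_mkQ _
  have hsur : Function.Surjective (algebraMap T (T ⧸ m)) := Ideal.Quotient.mk_surjective
  haveI : Module.Finite T K := ⟨Submodule.fg_top K |>.2 (IsNoetherian.noetherian K)⟩
  haveI : Module.Finite (T ⧸ m) V := Module.Finite.of_restrictScalars_finite T _ _
  have hgen : Submodule.span T (Set.range fun i => (⟨f i, hf ▸ Ideal.subset_span ⟨i, rfl⟩⟩ : K)) = ⊤ := by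
    apply Submodule.map_injective_of_injective K.subtype_injective
    rw [Submodule.map_span, ← Set.range_comp, Submodule.map_subtype_top]
    exact hf.symm
  have hdim : Module.finrank (T ⧸ m) V ≤ N := by
    have htop : Submodule.span (T ⧸ m) (Set.range fun i => mk ⟨f i, hf ▸ Ideal.subset_span ⟨i, rfl⟩⟩) = ⊤ := by
      apply Submodule.restrictScalars_injective T
      rw [Submodule.restrictScalars_span T (T ⧸ m) hsur, Submodule.restrictScalars_top,
        show (fun i => mk ⟨f i, hf ▸ Ideal.subset_span ⟨i, rfl⟩⟩) =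
          mk ∘ fun i => (⟨f i, hf ▸ Ideal.subset_span ⟨i, rfl⟩⟩ : K) from rfl,
        Set.range_comp, ← Submodule.map_span, hgen, Submodule.map_top, LinearMap.range_eq_top.2 hmk]
    have := finrank_range_le_card (R := T ⧸ m) fun i => mk ⟨f i, hf ▸ Ideal.subset_span ⟨i, rfl⟩⟩
    rw [Set.finrank, htop, finrank_top, Fintype.card_fin] at this
    exact this
  -- a basis adapted to the image of `J`
  let sJ : Set V := mk '' {x : K | (x : T) ∈ J}
  obtain ⟨b₁, hb₁, hb₁s, hb₁i⟩ := exists_linearIndependent (T ⧸ m) sJ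
  have hb₁i' : LinearIndepOn (T ⧸ m) id b₁ := hb₁i
  let b₂ : Set V := hb₁i'.extend (Set.subset_univ b₁)
  have hb₂i : LinearIndepOn (T ⧸ m) id b₂ := hb₁i'.linearIndepOn_extend _
  have hb12 : b₁ ⊆ b₂ := hb₁i'.subset_extend _
  have hb₂s : Submodule.span (T ⧸ m) b₂ = ⊤ := by
    have h1 := hb₁i'.span_extend_eq_span (Set.subset_univ b₁)
    rwa [Submodule.span_univ] at h1
  have hfin₂ : b₂.Finite := LinearIndependent.setFinite (R := T ⧸ m) hb₂i
  have hfin₁ : b₁.Finite := hfin₂.subset hb12
  have hcard : hfin₂.toFinset.card ≤ N := le_trans (LinearIndependent.finset_card_le_finrank (R := T ⧸ m) (by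
    have : LinearIndepOn (T ⧸ m) id (↑hfin₂.toFinset : Set V) := by rwa [Set.Finite.coe_toFinset]
    exact this)) hdim
  -- lifts
  have hl : ∀ v ∈ b₁, ∃ x : K, (x : T) ∈ J ∧ mk x = v := fun v hv => by
    obtain ⟨x, hx, rfl⟩ := hb₁ hv
    exact ⟨x, hx, rfl⟩
  choose la hlaJ hla using hl
  choose lc hlc using hmk
  let A : Finset K := hfin₁.toFinset.attach.image fun v => la v.1 (hfin₁.mem_toFinset.1 v.2)
  let C : Finset K := (hfin₂.toFinset \ hfin₁.toFinset).image lc
  have hA : mk '' (A : Set K) = b₁ := by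
    ext v
    constructor
    · rintro ⟨x, hx, rfl⟩
      obtain ⟨⟨w, hw⟩, -, rfl⟩ := Finset.mem_image.1 hx
      rw [hla]
      exact hfin₁.mem_toFinset.1 hw
    · intro hv
      exact ⟨la v hv, Finset.mem_image.2 ⟨⟨v, hfin₁.mem_toFinset.2 hv⟩, Finset.mem_attach _ _, rfl⟩, hla v hv⟩
  have hC : b₂ ⊆ mk '' ((A : Set K) ∪ ↑C) := by
    intro v hv
    by_cases h1 : v ∈ b₁
    · obtain ⟨x, hx, rfl⟩ := hA.symm ▸ h1
      exact ⟨x, Or.inl hx, rfl⟩
    · exact ⟨lc v, Or.inr (Finset.mem_image.2 ⟨v, Finset.mem_sdiff.2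
        ⟨hfin₂.mem_toFinset.2 hv, fun h => h1 (hfin₁.mem_toFinset.1 h)⟩, rfl⟩), hlc v⟩
  have hAJ : ∀ x ∈ A, (x : T) ∈ J := fun x hx => by
    obtain ⟨⟨w, hw⟩, -, rfl⟩ := Finset.mem_image.1 hx
    exact hlaJ _ _
  refine ⟨A.image Subtype.val, C.image Subtype.val, ?_, ?_, ?_⟩
  · have h1 : A.card ≤ hfin₁.toFinset.card := Finset.card_image_le.trans (by simp)
    have h2 : C.card ≤ (hfin₂.toFinset \ hfin₁.toFinset).card := Finset.card_image_le
    have h3 : hfin₁.toFinset ⊆ hfin₂.toFinset := fun v hv =>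
      hfin₂.mem_toFinset.2 (hb12 (hfin₁.mem_toFinset.1 hv))
    have h4 : (A.image Subtype.val).card ≤ A.card := Finset.card_image_le
    have h5 : (C.image Subtype.val).card ≤ C.card := Finset.card_image_le
    have h6 := Finset.card_sdiff_of_subset h3
    have h7 := Finset.card_le_card h3
    omega
  · have hle : Ideal.span (↑(A.image Subtype.val) : Set T) ≤ J := Ideal.span_le.2 fun x hx => by
      obtain ⟨y, hy, rfl⟩ := Finset.mem_image.1 hx
      exact hAJ y hy
    refine le_antisymm ?_ hle
    refine Submodule.le_of_le_smul_of_le_jacobson_bot (I := m) (IsNoetherian.noetherian J)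
      (IsLocalRing.maximalIdeal_le_jacobson _) fun x hx => ?_
    let x' : K := ⟨x, hJK hx⟩
    have h1 : mk x' ∈ Submodule.span (T ⧸ m) b₁ := hb₁s ▸ Submodule.subset_span ⟨x', hx, rfl⟩
    rw [← hA, ← Submodule.restrictScalars_mem T, Submodule.restrictScalars_span T (T ⧸ m) hsur,
      ← Submodule.map_span] at h1
    obtain ⟨y, hy, hxy⟩ := h1
    have h2 : x' - y ∈ m • (⊤ : Submodule T K) := by
      rw [← hker, LinearMap.mem_ker, map_sub, hxy, sub_self]
    have h3 : x - (y : T) ∈ m * K := by
      have := Submodule.mem_map_of_mem (f := K.subtype) h2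
      rwa [Submodule.map_smul'', Submodule.map_subtype_top] at this
    have hy' : (y : T) ∈ Ideal.span (↑(A.image Subtype.val) : Set T) := by
      have := Submodule.mem_map_of_mem (f := K.subtype) hy
      rw [Submodule.map_span] at this
      rw [Finset.coe_image]
      exact this
    rw [Submodule.mem_sup]
    exact ⟨y, hy', x - y, h ⟨J.sub_mem hx (hle hy'), h3⟩, add_sub_cancel _ _⟩
  · have hle : Ideal.span (↑(A.image Subtype.val) ∪ ↑(C.image Subtype.val) : Set T) ≤ K :=
      Ideal.span_le.2 fun x hx => by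
        rcases hx with hx | hx <;>
        · obtain ⟨y, -, rfl⟩ := Finset.mem_image.1 hx
          exact y.2
    refine le_antisymm ?_ hle
    refine Submodule.le_of_le_smul_of_le_jacobson_bot (I := m) (IsNoetherian.noetherian K)
      (IsLocalRing.maximalIdeal_le_jacobson _) fun x hx => ?_
    have h1 : mk ⟨x, hx⟩ ∈ Submodule.span (T ⧸ m) (mk '' ((A : Set K) ∪ ↑C)) :=
      Submodule.span_mono hC (hb₂s ▸ Submodule.mem_top)
    rw [← Submodule.restrictScalars_mem T, Submodule.restrictScalars_span T (T ⧸ m) hsur,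
      ← Submodule.map_span] at h1
    obtain ⟨y, hy, hxy⟩ := h1
    have h2 : (⟨x, hx⟩ : K) - y ∈ m • (⊤ : Submodule T K) := by
      rw [← hker, LinearMap.mem_ker, map_sub, hxy, sub_self]
    have h3 : x - (y : T) ∈ m • K := by
      have := Submodule.mem_map_of_mem (f := K.subtype) h2
      rwa [Submodule.map_smul'', Submodule.map_subtype_top] at this
    have hy' := Submodule.mem_map_of_mem (f := K.subtype) hy
    rw [Submodule.map_span, Set.image_union] at hy'
    rw [Submodule.mem_sup]
    refine ⟨y, Submodule.span_mono ?_ hy', x - y, h3, add_sub_cancel _ _⟩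
    rintro z (⟨w, hw, rfl⟩ | ⟨w, hw, rfl⟩)
    · exact Or.inl (Finset.mem_coe.2 (Finset.mem_image_of_mem _ hw))
    · exact Or.inr (Finset.mem_coe.2 (Finset.mem_image_of_mem _ hw))


theorem exists_nat_of_cutBy {T S : Type u} [CommRing T] [CommRing S] (π : T →+* S) (h : CILib.CutBy π)
    {N : ℕ} (hT : ringKrullDim T = N) (hS : ringKrullDim S = 0) :
    ∃ f : Fin N → T, RingHom.ker π = Ideal.span (Set.range f) := by
  obtain ⟨c, hc, hd⟩ := h
  rw [hT, hS, zero_add] at hd
  obtain rfl : N = c := by exact_mod_cast hd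
  exact hc

theorem eq_maximalIdeal_of_frob_le {O : Type u} [CommRing O] [IsLocalRing O] (q : ℕ) {P : Ideal O}
    (hP : P.IsPrime) (hle : frob (maximalIdeal O) q ≤ P) : P = maximalIdeal O :=
  ((maximalIdeal.isMaximal O).eq_of_le hP.ne_top fun _ hx => hP.radical_le_iff.2 hle (le_radical_frob _ q hx)).symm

theorem ringKrullDim_quot_frob {O : Type u} [CommRing O] [IsLocalRing O] (q : ℕ)
    (hF : frob (maximalIdeal O) q ≤ maximalIdeal O) : ringKrullDim (O ⧸ frob (maximalIdeal O) q) = 0 := by
  haveI : Nontrivial (O ⧸ frob (maximalIdeal O) q) :=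
    Ideal.Quotient.nontrivial_iff.2 fun h => (maximalIdeal.isMaximal O).ne_top (top_le_iff.1 (h ▸ hF))
  refine le_antisymm (Ring.krullDimLE_iff.1 (Ring.KrullDimLE.mk₀ fun P hP => ?_)) ringKrullDim_nonneg_of_nontrivial
  haveI := hP
  have h1 : P.comap (Ideal.Quotient.mk (frob (maximalIdeal O) q)) = maximalIdeal O := by
    refine eq_maximalIdeal_of_frob_le q (hP.comap _) fun y hy => ?_
    show Ideal.Quotient.mk _ y ∈ P
    rw [Ideal.Quotient.eq_zero_iff_mem.2 hy]
    exact zero_mem _
  have h3 := Ideal.map_eq_top_or_isMaximal_of_surjective (Ideal.Quotient.mk (frob (maximalIdeal O) q))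
    Ideal.Quotient.mk_surjective (maximalIdeal.isMaximal O)
  have h4 : (maximalIdeal O).map (Ideal.Quotient.mk (frob (maximalIdeal O) q)) = P := by
    refine Eq.trans ?_ (Ideal.map_comap_of_surjective _ Ideal.Quotient.mk_surjective P)
    exact congrArg _ h1.symm
  rw [h4] at h3
  exact h3.resolve_left hP.ne_top

/-- If the quotients by arbitrarily high Frobenius powers are complete intersections, so is the ring. -/
theorem isCompleteIntersection_of_frob {T O : Type u} [CommRing T] [IsRegularLocalRing T] [CommRing O]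
    [IsLocalRing O] (π : T →+* O) (hπ : Function.Surjective π)
    (h : ∀ n : ℕ, ∃ (q : ℕ) (_ : n < q) (_ : IsLocalRing (O ⧸ frob (maximalIdeal O) q)),
      Pi1.IsCompleteIntersection (O ⧸ frob (maximalIdeal O) q)) :
    Pi1.IsCompleteIntersection O := by
  classical
  haveI : IsNoetherianRing O := isNoetherianRing_of_surjective T O π hπ
  obtain ⟨N, hN⟩ := CILib.exists_nat_ringKrullDim' T
  obtain ⟨d, hd⟩ := CILib.exists_nat_ringKrullDim' O
  let J := RingHom.ker π
  let m := maximalIdeal T
  obtain ⟨k, hk⟩ := m.exists_pow_inf_eq_pow_smul (M := T) J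
  have hAR : m ^ (k + 1) ⊓ J ≤ m * J := by
    have h1 := hk (k + 1) (Nat.le_succ k)
    simp only [smul_eq_mul, Ideal.mul_top, Nat.add_sub_cancel_left, pow_one] at h1
    rw [h1]
    exact Ideal.mul_mono_right inf_le_right
  obtain ⟨q, hq, hloc, hCI⟩ := h (k + 1)
  let F := frob (maximalIdeal O) q
  have hF : F ≤ maximalIdeal O :=
    (frob_le_pow _ q).trans (Ideal.pow_le_self (by omega))
  have hmaxmap : m.map π = maximalIdeal O := by
    refine le_antisymm (Ideal.map_le_iff_le_comap.2 fun x hx => ?_) fun y hy => ?_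
    · intro hu
      haveI : IsLocalHom π := .of_surjective π hπ
      exact hx (isUnit_of_map_unit π x hu)
    · obtain ⟨x, rfl⟩ := hπ y
      exact Ideal.mem_map_of_mem _ fun hu => hy (hu.map π)
  let K := F.comap π
  have hJK : J ≤ K := fun x hx => by
    show π x ∈ F
    rw [RingHom.mem_ker.1 hx]; exact zero_mem _
  have hKle : K ≤ J ⊔ m ^ q := by
    have : K ≤ ((m ^ q).map π).comap π := Ideal.comap_mono (by
      rw [Ideal.map_pow, hmaxmap]; exact frob_le_pow _ q)
    rwa [Ideal.comap_map_of_surjective π hπ, ← RingHom.ker_eq_comap_bot, sup_comm] at this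
  have hinj : J ⊓ m * K ≤ m * J := by
    rintro x ⟨hxJ, hxK⟩
    have h1 : x ∈ m * J ⊔ m * m ^ q := by
      rw [← Ideal.mul_sup]
      exact Ideal.mul_mono_right hKle hxK
    obtain ⟨a, ha, b, hb, rfl⟩ := Submodule.mem_sup.1 h1
    have haJ : a ∈ J := (Ideal.mul_le_right (I := m) (J := J)) ha
    have hbJ : b ∈ J := (Submodule.add_mem_iff_right J haJ).1 hxJ
    refine add_mem ha (hAR ⟨?_, hbJ⟩)
    rw [← pow_succ'] at hb
    exact Ideal.pow_le_pow_right (by omega) hb
  -- `K` needs at most `dim T` generators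
  let σ : T →+* O ⧸ F := (Ideal.Quotient.mk F).comp π
  have hσ : Function.Surjective σ := Ideal.Quotient.mk_surjective.comp hπ
  have hdim0 : ringKrullDim (O ⧸ F) = 0 := ringKrullDim_quot_frob q hF
  obtain ⟨f, hf⟩ := exists_nat_of_cutBy σ ((CILib.isCompleteIntersection_iff_cutBy σ hσ).1 hCI) hN hdim0
  have hσK : RingHom.ker σ = K := by
    rw [← RingHom.comap_ker, Ideal.mk_ker]
  obtain ⟨a, c, hac, ha, hc⟩ := exists_adapted_generators J K hJK hinj f (hσK ▸ hf)
  -- the extra generators define the closed point of `O`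
  have hFspan : F = Ideal.span (π '' (↑c : Set T)) := by
    have h1 : K.map π = F := Ideal.map_comap_of_surjective π hπ F
    rw [← h1, hc, Ideal.span_union, Ideal.map_sup, ← ha, Ideal.map_span,
      (Ideal.map_eq_bot_iff_le_ker π).2 le_rfl, bot_sup_eq]
  have hdc : d ≤ c.card := by
    have hmin : maximalIdeal O ∈ (Ideal.span (π '' (↑c : Set T))).minimalPrimes := by
      rw [← hFspan]
      refine ⟨⟨inferInstance, hF⟩, fun P hP _ => ?_⟩
      exact fun x hx => hP.1.radical_le_iff.2 hP.2 (le_radical_frob _ q hx)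
    have h1 := Ideal.height_le_card_of_mem_minimalPrimes_span (c.finite_toSet.image π) hmin
    have h2 : ((maximalIdeal O).height : WithBot ℕ∞) = d := by
      rw [IsLocalRing.maximalIdeal_height_eq_ringKrullDim, hd]
    have h3 : (maximalIdeal O).height = d := by exact_mod_cast h2
    rw [h3] at h1
    have h4 : (π '' (↑c : Set T)).ncard ≤ c.card := by
      rw [← Set.ncard_coe_finset c]
      exact Set.ncard_image_le c.finite_toSet
    exact le_trans (by exact_mod_cast h1) h4
  have hdN : d ≤ N := by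
    have := ringKrullDim_le_of_surjective π hπ
    rw [hN, hd] at this
    exact_mod_cast this
  refine (CILib.isCompleteIntersection_iff_cutBy π hπ).2 ⟨N - d, ?_, ?_⟩
  · refine ⟨fun j => if h : (j : ℕ) < a.card then (a.equivFin.symm ⟨j, h⟩ : T) else 0, ?_⟩
    show J = _
    rw [ha]
    refine le_antisymm (Ideal.span_le.2 fun x hx => ?_) (Ideal.span_le.2 ?_)
    · have hlt : ((a.equivFin ⟨x, hx⟩ : Fin a.card) : ℕ) < N - d :=
        lt_of_lt_of_le (a.equivFin ⟨x, hx⟩).2 (by omega)
      exact Ideal.subset_span ⟨⟨_, hlt⟩, by simp⟩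
    · rintro _ ⟨j, rfl⟩
      dsimp only
      split
      · exact Ideal.subset_span (a.equivFin.symm _).2
      · exact zero_mem _
  · rw [hN, hd, ← Nat.cast_add, Nat.add_sub_cancel' hdN]

end Groth.Agent.GrpLCI
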