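import Groth.Agent.GrpLCI.FrobQuot
import Mathlib

/-!
The group law gives the Frobenius quotients at the unit counital comultiplications.
-/

set_option autoImplicit false
set_option backward.isDefEq.respectTransparency false

universe u

open CategoryTheory CategoryTheory.Limits MonoidalCategory CartesianMonoidalCategory MonObj AlgebraicGeometry
open TensorProduct

noncomputable section

namespace Groth.Agent.GrpLCI

variable {k : Type u} [Field k]

/-- `Spec B` over `Spec k`. -/
abbrev specO (B : Type u) [CommRing B] [Algebra k B] : Over (Spec (CommRingCat.of k)) :=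
  Over.mk (Spec.map (CommRingCat.ofHom (algebraMap k B)))

/-- An algebra map as a morphism over `Spec k`. -/
def sp {B C : Type u} [CommRing B] [Algebra k B] [CommRing C] [Algebra k C] (φ : B →ₐ[k] C) :
    specO (k := k) C ⟶ specO (k := k) B :=
  Over.homMk (Spec.map (CommRingCat.ofHom φ.toRingHom)) (by
    show Spec.map _ ≫ Spec.map _ = Spec.map _
    rw [← Spec.map_comp]
    congr 1
    ext x
    exact φ.commutes x)

theorem sp_left {B C : Type u} [CommRing B] [Algebra k B] [CommRing C] [Algebra k C] (φ : B →ₐ[k] C) :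
    (sp φ).left = Spec.map (CommRingCat.ofHom φ.toRingHom) := rfl

theorem sp_comp {B C D : Type u} [CommRing B] [Algebra k B] [CommRing C] [Algebra k C] [CommRing D] [Algebra k D]
    (φ : B →ₐ[k] C) (ψ : C →ₐ[k] D) : sp ψ ≫ sp φ = sp (ψ.comp φ) := by
  ext1
  show Spec.map _ ≫ Spec.map _ = Spec.map _
  rw [← Spec.map_comp]
  rfl

theorem sp_comp_assoc {B C D : Type u} [CommRing B] [Algebra k B] [CommRing C] [Algebra k C] [CommRing D] [Algebra k D]
    (φ : B →ₐ[k] C) (ψ : C →ₐ[k] D) {G : Over (Spec (CommRingCat.of k))} (x : specO (k := k) B ⟶ G) :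
    sp ψ ≫ sp φ ≫ x = sp (ψ.comp φ) ≫ x := by
  rw [← Category.assoc, sp_comp]

theorem sp_id (B : Type u) [CommRing B] [Algebra k B] : sp (AlgHom.id k B) = 𝟙 (specO (k := k) B) := by
  ext1
  show Spec.map (CommRingCat.ofHom (RingHom.id B)) = 𝟙 _
  exact Spec.map_id _

variable (G : Over (Spec (CommRingCat.of k))) {A : Type u} [CommRing A] [Algebra k A]
  (pt : specO (k := k) A ⟶ G) [IsOpenImmersion pt.left]

theorem eq_of_sp_comp {B : Type u} [CommRing B] [Algebra k B] {φ ψ : A →ₐ[k] B}
    (h : sp φ ≫ pt = sp ψ ≫ pt) : φ = ψ := by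
  have h1 : (sp φ).left ≫ pt.left = (sp ψ).left ≫ pt.left := congrArg CommaMorphism.left h
  rw [cancel_mono, sp_left, sp_left] at h1
  have h2 := Spec.map_injective h1
  ext x
  exact RingHom.congr_fun (congrArg CommRingCat.Hom.hom h2) x

theorem exists_sp_comp {B : Type u} [CommRing B] [Algebra k B] (h : specO (k := k) B ⟶ G)
    (hr : Set.range h.left ⊆ Set.range pt.left) : ∃ φ : A →ₐ[k] B, sp φ ≫ pt = h := by
  let l : Spec (CommRingCat.of B) ⟶ Spec (CommRingCat.of A) := IsOpenImmersion.lift pt.left h.left hr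
  have hl : l ≫ pt.left = h.left := IsOpenImmersion.lift_fac _ _ _
  have hw : l ≫ Spec.map (CommRingCat.ofHom (algebraMap k A)) = Spec.map (CommRingCat.ofHom (algebraMap k B)) := by
    have h1 : pt.left ≫ G.hom = Spec.map (CommRingCat.ofHom (algebraMap k A)) := Over.w pt
    have h2 : h.left ≫ G.hom = Spec.map (CommRingCat.ofHom (algebraMap k B)) := Over.w h
    rw [← h1, ← Category.assoc, hl, h2]
  rw [← Spec.map_preimage l, ← Spec.map_comp] at hw
  have hw' := Spec.map_injective hw
  let φ : A →ₐ[k] B :=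
    { (Spec.preimage l).hom with commutes' := fun c => RingHom.congr_fun (congrArg CommRingCat.Hom.hom hw') c }
  refine ⟨φ, ?_⟩
  ext1
  show Spec.map (Spec.preimage l) ≫ pt.left = h.left
  rw [Spec.map_preimage, hl]

variable (p : ℕ) [Fact p.Prime] [CharP k p] [GrpObj G] (ε : A →ₐ[k] k)

theorem exists_isCounital (hε : sp ε ≫ pt = toUnit _ ≫ η[G]) (n : ℕ) :
    ∃ Δ : frobQuot p ε n →ₐ[k] frobQuot p ε n ⊗[k] frobQuot p ε n,
      FinHopf.IsCounital (frobPt p ε n) Δ := by
  classical
  let An := frobQuot p ε n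
  let εn : An →ₐ[k] k := frobPt p ε n
  let e₂ : An ⊗[k] An →ₐ[k] k := frobPt₂ p ε n
  let mk : A →ₐ[k] An := Ideal.Quotient.mkₐ k _
  let i : specO (k := k) An ⟶ G := sp mk ≫ pt
  let inl : An →ₐ[k] An ⊗[k] An := Algebra.TensorProduct.includeLeft
  let inr : An →ₐ[k] An ⊗[k] An := Algebra.TensorProduct.includeRight
  let h : specO (k := k) (An ⊗[k] An) ⟶ G := lift (sp inl ≫ i) (sp inr ≫ i) ≫ μ
  -- the unit
  have hunit : sp εn ≫ i = toUnit _ ≫ η[G] := by
    show sp εn ≫ sp mk ≫ pt = _
    rw [← Category.assoc, sp_comp, show εn.comp mk = ε from frobPt_comp p ε n, hε]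
  have hconst : ∀ {B : Type u} [CommRing B] [Algebra k B] (f : An →ₐ[k] B),
      f = (Algebra.ofId k B).comp εn → sp f ≫ i = toUnit _ ≫ η[G] := by
    intro B _ _ f hf
    rw [hf, ← sp_comp, Category.assoc, hunit, ← Category.assoc, comp_toUnit]
  -- everything lands at the unit
  have he₂ : sp e₂ ≫ h = sp ε ≫ pt := by
    show sp e₂ ≫ lift (sp inl ≫ i) (sp inr ≫ i) ≫ μ = _
    rw [← Category.assoc, comp_lift, sp_comp_assoc inl e₂ i, sp_comp_assoc inr e₂ i,
      show e₂.comp inl = εn from AlgHom.ext fun a => by simp [e₂, inl, εn, frobPt₂],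
      show e₂.comp inr = εn from AlgHom.ext fun a => by simp [e₂, inr, εn, frobPt₂],
      hunit, lift_comp_one_left, hε]
  have hrange : Set.range h.left ⊆ Set.range pt.left := by
    rintro _ ⟨x, rfl⟩
    have hle : RingHom.ker e₂ ≤ x.asIdeal := fun y hy =>
      x.isPrime.radical_le_iff.2 le_rfl (by
        obtain ⟨N, hN⟩ := isNilpotent_of_mem_ker₂ p ε n hy
        exact ⟨N, by rw [hN]; exact zero_mem _⟩)
    have hsur : Function.Surjective e₂ := fun c => ⟨algebraMap k _ c, e₂.commutes c⟩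
    haveI := RingHom.ker_isMaximal_of_surjective _ hsur
    have hx : x = (sp e₂).left (IsLocalRing.closedPoint k) := by
      refine PrimeSpectrum.ext ?_
      show x.asIdeal = Ideal.comap e₂.toRingHom (IsLocalRing.maximalIdeal k)
      rw [IsLocalRing.maximalIdeal_eq_bot, ← RingHom.ker_eq_comap_bot]
      exact ((RingHom.ker_isMaximal_of_surjective _ hsur).eq_of_le x.isPrime.ne_top hle).symm
    refine ⟨(sp ε).left (IsLocalRing.closedPoint k), ?_⟩
    rw [hx, ← Scheme.Hom.comp_apply, ← Scheme.Hom.comp_apply, ← Over.comp_left, ← Over.comp_left, he₂]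
  obtain ⟨ψ, hψ⟩ := exists_sp_comp G pt h hrange
  have hψε : e₂.comp ψ = ε := eq_of_sp_comp G pt (by rw [← sp_comp, Category.assoc, hψ, he₂])
  have hkill : ∀ a ∈ frob (RingHom.ker ε) (p ^ n), ψ a = 0 := by
    intro a ha
    refine (show frob (RingHom.ker ε) (p ^ n) ≤ RingHom.ker ψ from Ideal.span_le.2 ?_) ha
    rintro _ ⟨b, hb, rfl⟩
    show ψ (b ^ p ^ n) = 0
    rw [map_pow, pow_eq_algebraMap₂, show frobPt₂ p ε n (ψ b) = ε b from AlgHom.congr_fun hψε b,
      RingHom.mem_ker.1 hb, zero_pow (pow_ne_zero n (Fact.out (p := p.Prime)).ne_zero), map_zero]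
  let Δ : An →ₐ[k] An ⊗[k] An := Ideal.Quotient.liftₐ _ ψ hkill
  have hΔ : Δ.comp mk = ψ := AlgHom.ext fun a => rfl
  have key : ∀ l : An ⊗[k] An →ₐ[k] An,
      ((l.comp inl = (Algebra.ofId k An).comp εn ∧ l.comp inr = AlgHom.id k An) ∨
        (l.comp inl = AlgHom.id k An ∧ l.comp inr = (Algebra.ofId k An).comp εn)) →
      ∀ a, l (Δ a) = a := by
    intro l hl
    have h1 : sp l ≫ h = i := by
      show sp l ≫ lift (sp inl ≫ i) (sp inr ≫ i) ≫ μ = _
      rw [← Category.assoc, comp_lift, sp_comp_assoc inl l i, sp_comp_assoc inr l i]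
      rcases hl with ⟨ha, hb⟩ | ⟨ha, hb⟩
      · rw [hb, hconst _ ha, sp_id, Category.id_comp, lift_comp_one_left]
      · rw [ha, hconst _ hb, sp_id, Category.id_comp, lift_comp_one_right]
    have h2 : l.comp ψ = mk := eq_of_sp_comp G pt (by rw [← sp_comp, Category.assoc, hψ, h1])
    intro a
    obtain ⟨b, rfl⟩ := Ideal.Quotient.mk_surjective a
    exact AlgHom.congr_fun h2 b
  refine ⟨Δ, fun a => ?_, fun a => ?_⟩
  · refine key ((Algebra.TensorProduct.lid k An).toAlgHom.comp
      (Algebra.TensorProduct.map εn (AlgHom.id k An))) (Or.inl ⟨?_, ?_⟩) a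
    · exact AlgHom.ext fun x => by simp [inl, Algebra.ofId_apply, Algebra.algebraMap_eq_smul_one]
    · exact AlgHom.ext fun x => by simp [inr]
  · refine key ((Algebra.TensorProduct.rid k k An).toAlgHom.comp
      (Algebra.TensorProduct.map (AlgHom.id k An) εn)) (Or.inr ⟨?_, ?_⟩) a
    · exact AlgHom.ext fun x => by simp [inl]
    · exact AlgHom.ext fun x => by simp [inr, Algebra.ofId_apply, Algebra.algebraMap_eq_smul_one]

/-- The local ring of a group scheme at the unit is a complete intersection. -/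
theorem isCompleteIntersection_unit [Algebra.FiniteType k A] [PerfectRing k p]
    (hε : sp ε ≫ pt = toUnit _ ≫ η[G]) :
    haveI : (RingHom.ker ε).IsPrime := RingHom.ker_isPrime ε
    Pi1.IsCompleteIntersection (Localization.AtPrime (RingHom.ker ε)) :=
  isCompleteIntersection_localization p ε (exists_isCounital G pt p ε hε)

end Groth.Agent.GrpLCI
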