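import Groth.Agent.GrpLCI.GroupLaw
import Groth.Agent.CILib.CIBaseChange
import Groth.Agent.GrpSchLib.Cartier
import Groth.Agent.GrpSchLib.Dimension
import Mathlib

/-!
Flat, locally finitely presented group schemes are syntomic.
-/

set_option autoImplicit false
set_option backward.isDefEq.respectTransparency false

universe u

open CategoryTheory CategoryTheory.Limits MonoidalCategory CartesianMonoidalCategory MonObj AlgebraicGeometry

noncomputable section

namespace Groth.Agent.GrpLCI

variable {k : Type u} [Field k]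

/-- Over a field the local rings of the fibres are the local rings. -/
theorem isCompleteIntersection_fiberStalk_of_isOpenImmersion {X : Scheme.{u}} (f : X ⟶ Spec (CommRingCat.of k))
    {A : Type u} [CommRing A] [Algebra k A] [Algebra.FiniteType k A] (j : Spec (CommRingCat.of A) ⟶ X)
    [IsOpenImmersion j] (y : Spec (CommRingCat.of A)) {x : X} (hy : j y = x)
    (h : Pi1.IsCompleteIntersection (Localization.AtPrime y.asIdeal)) :
    Pi1.IsCompleteIntersection (CInt.fiberStalk f x) := by
  subst hy
  let s := f (j y)
  haveI : Subsingleton ↥(Spec (CommRingCat.of k)) := inferInstanceAs (Subsingleton (PrimeSpectrum k))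
  haveI : Surjective ((Spec (CommRingCat.of k)).fromSpecResidueField s) :=
    ⟨fun z => ⟨IsLocalRing.closedPoint _, Subsingleton.elim _ _⟩⟩
  haveI : IsClosedImmersion ((Spec (CommRingCat.of k)).fromSpecResidueField s) :=
    IsClosedImmersion.of_isPreimmersion _ (by
      rw [Set.range_eq_univ.2 ((Spec (CommRingCat.of k)).fromSpecResidueField s).surjective]
      exact isClosed_univ)
  haveI : IsIso ((Spec (CommRingCat.of k)).fromSpecResidueField s) := isIso_of_isClosedImmersion_of_surjective _
  haveI : IsIso (f.fiberι s) := inferInstanceAs (IsIso (pullback.fst f _))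
  let E : (Spec (CommRingCat.of A)).presheaf.stalk y ≅ CInt.fiberStalk f (j y) :=
    (asIso (j.stalkMap y)).symm ≪≫ X.presheaf.stalkCongr (.of_eq (f.fiberι_asFiber (j y)).symm) ≪≫
      asIso ((f.fiberι s).stalkMap (f.asFiber (j y)))
  let e : Localization.AtPrime y.asIdeal ≃+* CInt.fiberStalk f (j y) :=
    ((Spec.stalkIso (R := CommRingCat.of A) (x := y)).symm ≪≫ E).commRingCatIsoToRingEquiv
  haveI : Algebra.EssFiniteType k (Localization.AtPrime y.asIdeal) :=
    haveI := Algebra.EssFiniteType.of_isLocalization (Localization.AtPrime y.asIdeal) y.asIdeal.primeCompl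
    Algebra.EssFiniteType.comp k A _
  exact (CILib.isCompleteIntersection_of_ringEquiv (k := k) e).1 h

/-- Closed points of a group scheme over an algebraically closed field of positive characteristic. -/
theorem isCompleteIntersection_fiberStalk_of_isClosed [IsAlgClosed k] (p : ℕ) [Fact p.Prime] [CharP k p]
    (G : Over (Spec (CommRingCat.of k))) [GrpObj G] [LocallyOfFiniteType G.hom] {x : G.left}
    (hx : IsClosed ({x} : Set G.left)) : Pi1.IsCompleteIntersection (CInt.fiberStalk G.hom x) := by
  let h : specO (k := k) k ⟶ G := toUnit _ ≫ η[G]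
  let e : G.left := h.left (IsLocalRing.closedPoint k)
  obtain ⟨U, hU, heU, -⟩ := exists_isAffineOpen_mem_and_subset (x := e) (U := ⊤) trivial
  let A : Type u := Γ(G.left, U)
  letI : Algebra k A := (Spec.preimage (hU.fromSpec ≫ G.hom)).hom.toAlgebra
  let pt : specO (k := k) A ⟶ G := Over.homMk hU.fromSpec (by
    show hU.fromSpec ≫ G.hom = Spec.map _
    exact (Spec.map_preimage _).symm)
  haveI : IsOpenImmersion pt.left := inferInstanceAs (IsOpenImmersion hU.fromSpec)
  haveI : Algebra.FiniteType k A := by
    have h1 : LocallyOfFiniteType (Spec.map (CommRingCat.ofHom (algebraMap k A))) := by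
      have hw : hU.fromSpec ≫ G.hom = Spec.map (CommRingCat.ofHom (algebraMap k A)) := Over.w pt
      rw [← hw]
      infer_instance
    exact RingHom.finiteType_algebraMap.1 ((HasRingHomProperty.Spec_iff (P := @LocallyOfFiniteType)).1 h1)
  obtain ⟨ε, hε⟩ := exists_sp_comp G pt h (by
    rintro _ ⟨z, rfl⟩
    haveI : Subsingleton ↥(Spec (CommRingCat.of k)) := inferInstanceAs (Subsingleton (PrimeSpectrum k))
    obtain rfl : z = IsLocalRing.closedPoint k := Subsingleton.elim (α := ↥(Spec (CommRingCat.of k))) _ _
    exact (hU.range_fromSpec.ge heU))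
  have hCI := isCompleteIntersection_unit G pt p ε hε
  -- translate
  haveI := LocallyOfFiniteType.jacobsonSpace G.hom
  let x' : 𝟙_ _ ⟶ G := Over.homMk _ ((pointEquivClosedPoint G.hom).symm ⟨x, hx⟩).2
  have hx' : x'.left (IsLocalRing.closedPoint k) = x :=
    congrArg Subtype.val ((pointEquivClosedPoint G.hom).apply_symm_apply ⟨x, hx⟩)
  let α := GrpObj.mulRight x'
  have hα : sp ε ≫ pt ≫ α.hom = toUnit _ ≫ x' := by
    rw [← Category.assoc, hε]
    show (toUnit _ ≫ η[G]) ≫ lift (𝟙 G) (toUnit G ≫ x') ≫ μ = _
    rw [← Category.assoc, comp_lift, Category.comp_id, Category.assoc, ← Category.assoc η[G],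
      toUnit_unique (η[G] ≫ toUnit G) (𝟙 _), Category.id_comp, lift_comp_one_left]
  haveI : IsIso α.hom.left := inferInstanceAs (IsIso ((Over.forget _).map α.hom))
  let y : Spec (CommRingCat.of A) := (sp ε).left (IsLocalRing.closedPoint k)
  have hy : (pt.left ≫ α.hom.left) y = x := by
    have h1 := congrArg (fun m : specO (k := k) k ⟶ G => m.left (IsLocalRing.closedPoint k)) hα
    rw [← hx']
    refine h1.trans ?_
    show x'.left ((toUnit (specO (k := k) k)).left _) = x'.left _
    haveI : Subsingleton ↥(Spec (CommRingCat.of k)) := inferInstanceAs (Subsingleton (PrimeSpectrum k))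
    exact congrArg x'.left (Subsingleton.elim (α := ↥(Spec (CommRingCat.of k))) _ _)
  refine isCompleteIntersection_fiberStalk_of_isOpenImmersion G.hom (pt.left ≫ α.hom.left) y hy ?_
  have hyI : y.asIdeal = RingHom.ker ε := by
    show Ideal.comap ε.toRingHom (IsLocalRing.maximalIdeal k) = _
    rw [IsLocalRing.maximalIdeal_eq_bot, ← RingHom.ker_eq_comap_bot]
    rfl
  exact (show ∀ (I : Ideal A) (_ : I.IsPrime), I = y.asIdeal →
    Pi1.IsCompleteIntersection (Localization.AtPrime I) →
    Pi1.IsCompleteIntersection (Localization.AtPrime y.asIdeal) from fun I _ e => by subst e; exact id)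
    (RingHom.ker ε) (RingHom.ker_isPrime _) hyI.symm hCI

/-- Group schemes over algebraically closed fields. -/
theorem isCIMorphism_of_isAlgClosed [IsAlgClosed k] (G : Over (Spec (CommRingCat.of k))) [GrpObj G]
    [LocallyOfFiniteType G.hom] : CInt.IsCIMorphism G.hom := by
  haveI : IsLocallyNoetherian (Spec (CommRingCat.of k)) := inferInstance
  haveI : LocallyOfFinitePresentation G.hom := inferInstance
  haveI : Flat G.hom := inferInstance
  rw [CILib.isCIMorphism_iff_isSyntomicMor]
  obtain ⟨p, hp⟩ := CharP.exists k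
  rcases CharP.char_is_prime_or_zero k p with hpp | rfl
  · haveI := Fact.mk hpp
    haveI := LocallyOfFiniteType.jacobsonSpace G.hom
    by_contra hne
    obtain ⟨z, hz⟩ := not_forall.1 hne
    obtain ⟨c, hc, hcc⟩ := nonempty_inter_closedPoints (X := G.left)
      (Z := {z | Synt.IsSyntomicAt G.hom z}ᶜ) ⟨z, hz⟩ (CILib.isOpen_setOf_isSyntomicAt G.hom).isClosed_compl.isLocallyClosed
    exact hc ((CILib.isSyntomicAt_iff_isCompleteIntersection G.hom c).2
      (isCompleteIntersection_fiberStalk_of_isClosed p G hcc))
  · haveI : CharZero k := CharP.charP_to_charZero k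
    haveI := GrpSchLib.smooth_of_charZero G
    exact CILib.isSyntomicMor_of_smooth G.hom

/-- A flat, locally finitely presented group scheme is syntomic. -/
theorem isSyntomicMor_of_flat {S : Scheme.{u}} (G : Over S) [GrpObj G] [Flat G.hom]
    [LocallyOfFinitePresentation G.hom] : Synt.IsSyntomicMor G.hom := by
  rw [← CILib.isCIMorphism_iff_isSyntomicMor]
  refine ⟨inferInstance, inferInstance, fun x => ?_⟩
  let K := S.residueField (G.hom x)
  let Ω : Type u := AlgebraicClosure K
  let g : Spec (CommRingCat.of Ω) ⟶ S :=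
    Spec.map (CommRingCat.ofHom (algebraMap K Ω)) ≫ S.fromSpecResidueField (G.hom x)
  let ω : Spec (CommRingCat.of Ω) := IsLocalRing.closedPoint Ω
  have hg : G.hom x = g ω := by
    show G.hom x = S.fromSpecResidueField (G.hom x) (Spec.map (CommRingCat.ofHom (algebraMap K Ω)) ω)
    exact (Scheme.fromSpecResidueField_apply _ _).symm
  obtain ⟨z, hz, -⟩ := Scheme.Pullback.exists_preimage_pullback (f := G.hom) (g := g) x ω hg
  haveI : GrpObj (Over.mk G.hom) := ‹GrpObj G›
  haveI : GrpObj (Over.mk (pullback.snd G.hom g)) := Over.grpObjMkPullbackSnd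
  haveI : LocallyOfFiniteType (Over.mk (pullback.snd G.hom g)).hom :=
    inferInstanceAs (LocallyOfFiniteType (pullback.snd G.hom g))
  rw [← hz]
  exact (CILib.isCompleteIntersection_fiberStalk_iff (IsPullback.of_hasPullback G.hom g) z).2
    ((isCIMorphism_of_isAlgClosed (Over.mk (pullback.snd G.hom g))).2.2 z)

end Groth.Agent.GrpLCI
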